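/-
Automorphisms of Zorn's vector-matrix algebra: explicit elements.
-/
import Cfsg.Prelude.Def_G2
import Cfsg.Agent.Lib.Orthogonal.Matrix

set_option autoImplicit false

namespace Cfsg.Agent.G2Oct

open Matrix Cfsg.Lie

variable {F : Type*} [Field F]

/-- A vector matrix. -/
def mk (α : F) (a b : Fin 3 → F) (β : F) : Fin 8 → F := ![α, a 0, a 1, a 2, b 0, b 1, b 2, β]

theorem mk_eta (x : Fin 8 → F) : mk (x 0) (zA F x) (zB F x) (x 7) = x := by
  ext i; fin_cases i <;> rfl

theorem zA_mk (α : F) (a b : Fin 3 → F) (β : F) : zA F (mk α a b β) = a := by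
  ext i; fin_cases i <;> rfl

theorem zB_mk (α : F) (a b : Fin 3 → F) (β : F) : zB F (mk α a b β) = b := by
  ext i; fin_cases i <;> rfl

theorem mk_zero (α : F) (a b : Fin 3 → F) (β : F) : mk α a b β 0 = α := rfl
theorem mk_seven (α : F) (a b : Fin 3 → F) (β : F) : mk α a b β 7 = β := rfl

theorem mk_inj {α α' β β' : F} {a a' b b' : Fin 3 → F} (h : mk α a b β = mk α' a' b' β') :
    α = α' ∧ a = a' ∧ b = b' ∧ β = β' :=
  ⟨congrFun h 0, by rw [← zA_mk α a b β, h, zA_mk], by rw [← zB_mk α a b β, h, zB_mk], congrFun h 7⟩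

theorem mk_add (α α' β β' : F) (a a' b b' : Fin 3 → F) :
    mk α a b β + mk α' a' b' β' = mk (α + α') (a + a') (b + b') (β + β') := by
  ext i; fin_cases i <;> rfl

theorem mk_smul (c α β : F) (a b : Fin 3 → F) : c • mk α a b β = mk (c * α) (c • a) (c • b) (c * β) := by
  ext i; fin_cases i <;> rfl

theorem zornMul_mk (α β γ δ : F) (a b c d : Fin 3 → F) :
    zornMul (mk α a b β) (mk γ c d δ) = mk (α * γ + dot3 a d) (α • c + δ • a - cross3 b d)
      (γ • b + β • d + cross3 a c) (dot3 b c + β * δ) := by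
  simp only [zornMul, zA_mk, zB_mk, mk_zero, mk_seven]
  rfl

/-- The cofactor matrix. -/
def cof (A : Matrix (Fin 3) (Fin 3) F) : Matrix (Fin 3) (Fin 3) F :=
  !![A 1 1 * A 2 2 - A 1 2 * A 2 1, A 1 2 * A 2 0 - A 1 0 * A 2 2, A 1 0 * A 2 1 - A 1 1 * A 2 0;
    A 0 2 * A 2 1 - A 0 1 * A 2 2, A 0 0 * A 2 2 - A 0 2 * A 2 0, A 0 1 * A 2 0 - A 0 0 * A 2 1;
    A 0 1 * A 1 2 - A 0 2 * A 1 1, A 0 2 * A 1 0 - A 0 0 * A 1 2, A 0 0 * A 1 1 - A 0 1 * A 1 0]

theorem cross_mv (A : Matrix (Fin 3) (Fin 3) F) (a c : Fin 3 → F) :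
    cross3 (A *ᵥ a) (A *ᵥ c) = cof A *ᵥ cross3 a c := by
  ext i; fin_cases i <;> simp [cross3, cof, mulVec, dotProduct, Fin.sum_univ_three] <;> ring

theorem cross_cof (A : Matrix (Fin 3) (Fin 3) F) (b d : Fin 3 → F) :
    cross3 (cof A *ᵥ b) (cof A *ᵥ d) = A.det • (A *ᵥ cross3 b d) := by
  ext i; fin_cases i <;> simp [cross3, cof, mulVec, dotProduct, Fin.sum_univ_three, Matrix.det_fin_three] <;> ring

theorem dot_cof (A : Matrix (Fin 3) (Fin 3) F) (a d : Fin 3 → F) :
    dot3 (A *ᵥ a) (cof A *ᵥ d) = A.det * dot3 a d := by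
  simp [dot3, cof, mulVec, dotProduct, Fin.sum_univ_three, Matrix.det_fin_three]; ring

theorem dot_comm (a b : Fin 3 → F) : dot3 a b = dot3 b a := by simp [dot3]; ring

/-- Action of an element of the group. -/
abbrev app (g : GL (Fin 8) F) (x : Fin 8 → F) : Fin 8 → F := Orth.glEquiv (Fin 8) F g x

theorem mem_G2 {g : GL (Fin 8) F} :
    g ∈ Lie.G2 F ↔ ∀ x y, app g (zornMul x y) = zornMul (app g x) (app g y) := Iff.rfl

theorem symm_mem {L : (Fin 8 → F) ≃ₗ[F] (Fin 8 → F)} (h : ∀ x y, L (zornMul x y) = zornMul (L x) (L y)) :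
    (Orth.glEquiv (Fin 8) F).symm L ∈ Lie.G2 F := by
  rw [mem_G2]
  intro x y
  simp only [app, MulEquiv.apply_symm_apply]
  exact h x y

/-- The unipotent map of a vector, first kind. -/
def phiFun (v : Fin 3 → F) : (Fin 8 → F) →ₗ[F] (Fin 8 → F) where
  toFun x := mk (x 0 + dot3 v (zB F x)) (zA F x + (x 7 - x 0) • v - dot3 v (zB F x) • v)
    (zB F x - cross3 v (zA F x)) (x 7 - dot3 v (zB F x))
  map_add' x y := by ext i; fin_cases i <;> simp [mk, dot3, cross3, Matrix.vecHead, Matrix.vecTail] <;> ring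
  map_smul' c x := by ext i; fin_cases i <;> simp [mk, dot3, cross3, Matrix.vecHead, Matrix.vecTail] <;> ring

/-- The unipotent map of a vector, second kind. -/
def psiFun (w : Fin 3 → F) : (Fin 8 → F) →ₗ[F] (Fin 8 → F) where
  toFun x := mk (x 0 - dot3 w (zA F x)) (zA F x + cross3 w (zB F x))
    (zB F x + (x 0 - x 7) • w - dot3 w (zA F x) • w) (x 7 + dot3 w (zA F x))
  map_add' x y := by ext i; fin_cases i <;> simp [mk, dot3, cross3, Matrix.vecHead, Matrix.vecTail] <;> ring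
  map_smul' c x := by ext i; fin_cases i <;> simp [mk, dot3, cross3, Matrix.vecHead, Matrix.vecTail] <;> ring

/-- The unipotent element of a vector, first kind. -/
def phiEquiv (v : Fin 3 → F) : (Fin 8 → F) ≃ₗ[F] (Fin 8 → F) :=
  LinearEquiv.ofLinearMap (phiFun v) (phiFun (-v))
    (LinearMap.ext fun x => by ext i; fin_cases i <;> simp [phiFun, mk, dot3, cross3, Matrix.vecHead, Matrix.vecTail] <;> ring)
    (LinearMap.ext fun x => by ext i; fin_cases i <;> simp [phiFun, mk, dot3, cross3, Matrix.vecHead, Matrix.vecTail] <;> ring)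

/-- The unipotent element of a vector, second kind. -/
def psiEquiv (w : Fin 3 → F) : (Fin 8 → F) ≃ₗ[F] (Fin 8 → F) :=
  LinearEquiv.ofLinearMap (psiFun w) (psiFun (-w))
    (LinearMap.ext fun x => by ext i; fin_cases i <;> simp [psiFun, mk, dot3, cross3, Matrix.vecHead, Matrix.vecTail] <;> ring)
    (LinearMap.ext fun x => by ext i; fin_cases i <;> simp [psiFun, mk, dot3, cross3, Matrix.vecHead, Matrix.vecTail] <;> ring)

theorem phi_mul (v : Fin 3 → F) (x y : Fin 8 → F) :
    phiEquiv v (zornMul x y) = zornMul (phiEquiv v x) (phiEquiv v y) := by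
  ext i; fin_cases i <;> simp [phiEquiv, phiFun, mk, zornMul, dot3, cross3, Matrix.vecHead, Matrix.vecTail] <;> ring

theorem psi_mul (w : Fin 3 → F) (x y : Fin 8 → F) :
    psiEquiv w (zornMul x y) = zornMul (psiEquiv w x) (psiEquiv w y) := by
  ext i; fin_cases i <;> simp [psiEquiv, psiFun, mk, zornMul, dot3, cross3, Matrix.vecHead, Matrix.vecTail] <;> ring

theorem phi_mk (v a b : Fin 3 → F) (α β : F) :
    phiEquiv v (mk α a b β) = mk (α + dot3 v b) (a + (β - α) • v - dot3 v b • v) (b - cross3 v a) (β - dot3 v b) := by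
  show phiFun v (mk α a b β) = _
  simp only [phiFun, LinearMap.coe_mk, AddHom.coe_mk, zA_mk, zB_mk, mk_zero, mk_seven]

theorem psi_mk (w a b : Fin 3 → F) (α β : F) :
    psiEquiv w (mk α a b β) = mk (α - dot3 w a) (a + cross3 w b) (b + (α - β) • w - dot3 w a • w) (β + dot3 w a) := by
  show psiFun w (mk α a b β) = _
  simp only [psiFun, LinearMap.coe_mk, AddHom.coe_mk, zA_mk, zB_mk, mk_zero, mk_seven]

theorem cof_mul (A B : Matrix (Fin 3) (Fin 3) F) : cof (A * B) = cof A * cof B := by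
  ext i j; fin_cases i <;> fin_cases j <;> simp [cof, Matrix.mul_apply, Fin.sum_univ_three] <;> ring

/-- Block action of a matrix on the algebra. -/
def slFun (A : Matrix (Fin 3) (Fin 3) F) : (Fin 8 → F) →ₗ[F] (Fin 8 → F) where
  toFun x := mk (x 0) (A *ᵥ zA F x) (cof A *ᵥ zB F x) (x 7)
  map_add' x y := by
    rw [mk_add, ← mulVec_add, ← mulVec_add]
    congr 2 <;> ext i <;> fin_cases i <;> rfl
  map_smul' c x := by
    rw [RingHom.id_apply, mk_smul, ← mulVec_smul, ← mulVec_smul]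
    congr 2 <;> ext i <;> fin_cases i <;> rfl

theorem slFun_mk (A : Matrix (Fin 3) (Fin 3) F) (α β : F) (a b : Fin 3 → F) :
    slFun A (mk α a b β) = mk α (A *ᵥ a) (cof A *ᵥ b) β := by
  simp only [slFun, LinearMap.coe_mk, AddHom.coe_mk, zA_mk, zB_mk, mk_zero, mk_seven]

theorem slFun_mul (A B : Matrix (Fin 3) (Fin 3) F) : slFun (A * B) = slFun A * slFun B := by
  refine LinearMap.ext fun x => ?_
  rw [← mk_eta x]
  show _ = slFun A (slFun B _)
  rw [slFun_mk, slFun_mk, slFun_mk, cof_mul, mulVec_mulVec, mulVec_mulVec]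

theorem slFun_one : slFun (1 : Matrix (Fin 3) (Fin 3) F) = 1 := by
  refine LinearMap.ext fun x => ?_
  rw [← mk_eta x, slFun_mk, one_mulVec, show cof (1 : Matrix (Fin 3) (Fin 3) F) = 1 from ?_, one_mulVec]
  · rfl
  · ext i j; fin_cases i <;> fin_cases j <;> simp [cof, Matrix.one_apply]

/-- The special linear group inside the group. -/
def slHom : Matrix.SpecialLinearGroup (Fin 3) F →* GL (Fin 8) F :=
  (Orth.glEquiv (Fin 8) F).symm.toMonoidHom.comp
    ((LinearMap.GeneralLinearGroup.generalLinearEquiv F (Fin 8 → F)).toMonoidHom.comp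
      (MonoidHom.toHomUnits
        { toFun := fun A : Matrix.SpecialLinearGroup (Fin 3) F => slFun (A : Matrix (Fin 3) (Fin 3) F)
          map_one' := slFun_one
          map_mul' := fun A B => slFun_mul _ _ }))

theorem app_slHom (A : Matrix.SpecialLinearGroup (Fin 3) F) (x : Fin 8 → F) :
    app (slHom A) x = slFun (A : Matrix (Fin 3) (Fin 3) F) x := by
  simp only [app, slHom, MonoidHom.coe_comp, MulEquiv.coe_toMonoidHom, Function.comp_apply,
    MulEquiv.apply_symm_apply]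
  rfl

theorem slHom_mem (A : Matrix.SpecialLinearGroup (Fin 3) F) : slHom A ∈ Lie.G2 F := by
  rw [mem_G2]
  intro x y
  simp only [app_slHom]
  have hA : (A : Matrix (Fin 3) (Fin 3) F).det = 1 := A.2
  rw [← mk_eta x, ← mk_eta y, zornMul_mk, slFun_mk, slFun_mk, slFun_mk, zornMul_mk, cross_cof, cross_mv, dot_cof,
    dot_comm (cof _ *ᵥ _) _, dot_cof, hA, one_mul, one_mul, one_smul, mulVec_sub, mulVec_add, mulVec_add,
    mulVec_add, mulVec_smul, mulVec_smul, mulVec_smul, mulVec_smul, dot_comm (zB F x)]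

end Cfsg.Agent.G2Oct
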