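/-
The order of the automorphism group of Zorn's algebra: orbit and stabiliser of a primitive idempotent.
-/
import Cfsg.Agent.Lib.G2Octonion.Basic

set_option autoImplicit false

namespace Cfsg.Agent.G2Oct

open Matrix Cfsg.Lie

variable {F : Type*} [Field F]

theorem app_add (g : GL (Fin 8) F) (x y : Fin 8 → F) : app g (x + y) = app g x + app g y := map_add _ _ _
theorem app_sub (g : GL (Fin 8) F) (x y : Fin 8 → F) : app g (x - y) = app g x - app g y := map_sub _ _ _
theorem app_smul (g : GL (Fin 8) F) (c : F) (x : Fin 8 → F) : app g (c • x) = c • app g x := map_smul _ _ _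
theorem app_zero (g : GL (Fin 8) F) : app g 0 = 0 := map_zero _
theorem app_mul (g h : GL (Fin 8) F) (x : Fin 8 → F) : app (g * h) x = app g (app h x) := by
  simp only [app, map_mul]; rfl
theorem app_one (x : Fin 8 → F) : app (1 : GL (Fin 8) F) x = x := by
  simp only [app, map_one]; rfl
theorem app_inj (g : GL (Fin 8) F) : Function.Injective (app g) := (Orth.glEquiv (Fin 8) F g).injective
theorem app_surj (g : GL (Fin 8) F) : Function.Surjective (app g) := (Orth.glEquiv (Fin 8) F g).surjective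
theorem app_symm (L : (Fin 8 → F) ≃ₗ[F] (Fin 8 → F)) (x : Fin 8 → F) :
    app ((Orth.glEquiv (Fin 8) F).symm L) x = L x := by
  simp only [app, MulEquiv.apply_symm_apply]
theorem gl_ext {g h : GL (Fin 8) F} (H : ∀ x, app g x = app h x) : g = h :=
  (Orth.glEquiv (Fin 8) F).injective (LinearEquiv.ext H)

theorem cross_zero_l (a : Fin 3 → F) : cross3 0 a = 0 := by ext i; fin_cases i <;> simp [cross3]
theorem cross_zero_r (a : Fin 3 → F) : cross3 a 0 = 0 := by ext i; fin_cases i <;> simp [cross3]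
theorem cross_self (a : Fin 3 → F) : cross3 a a = 0 := by
  ext i; fin_cases i <;> simp [cross3, mul_comm]
theorem cross_neg_l (a b : Fin 3 → F) : cross3 (-a) b = -cross3 a b := by
  ext i; fin_cases i <;> simp [cross3] <;> ring
theorem dot_zero_l (a : Fin 3 → F) : dot3 0 a = 0 := by simp [dot3]
theorem dot_zero_r (a : Fin 3 → F) : dot3 a 0 = 0 := by simp [dot3]
theorem dot_neg_l (a b : Fin 3 → F) : dot3 (-a) b = -dot3 a b := by simp [dot3]; ring

theorem mk_000 : mk (0 : F) 0 0 0 = 0 := by ext i; fin_cases i <;> rfl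

/-- The unit. -/
def one8 : Fin 8 → F := mk 1 0 0 1

/-- The base idempotent. -/
def idem0 : Fin 8 → F := mk 1 0 0 0

theorem one_zorn (y : Fin 8 → F) : zornMul one8 y = y := by
  rw [← mk_eta y, one8, zornMul_mk]
  simp [cross_zero_l, dot_zero_l]

theorem zorn_one (y : Fin 8 → F) : zornMul y one8 = y := by
  rw [← mk_eta y, one8, zornMul_mk]
  simp [cross_zero_r, dot_zero_r]

theorem app_one8 {g : GL (Fin 8) F} (hg : g ∈ Lie.G2 F) : app g one8 = one8 := by
  obtain ⟨y, hy⟩ := app_surj g one8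
  have h := mem_G2.mp hg one8 y
  rw [one_zorn, hy, zorn_one] at h
  exact h.symm

/-- The primitive idempotents. -/
def idemSet (F : Type*) [Field F] : Set (Fin 8 → F) := {x | zornMul x x = x ∧ x ≠ 0 ∧ x ≠ one8}

theorem app_idemSet {g : GL (Fin 8) F} (hg : g ∈ Lie.G2 F) {x : Fin 8 → F} (hx : x ∈ idemSet F) :
    app g x ∈ idemSet F := by
  obtain ⟨h1, h2, h3⟩ := hx
  refine ⟨by rw [← mem_G2.mp hg, h1], fun h => h2 ?_, fun h => h3 ?_⟩
  · exact app_inj g (h.trans (app_zero g).symm)
  · exact app_inj g (h.trans (app_one8 hg).symm)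

theorem idem_iff (α β : F) (a b : Fin 3 → F) :
    mk α a b β ∈ idemSet F ↔ α + β = 1 ∧ dot3 a b = α * β := by
  constructor
  · rintro ⟨h, h0, h1⟩
    rw [zornMul_mk, cross_self, cross_self, sub_zero, add_zero, ← add_smul, ← add_smul] at h
    obtain ⟨e1, e2, e3, e4⟩ := mk_inj h
    rw [dot_comm b a] at e4
    by_cases hs : α + β = 1
    · refine ⟨hs, ?_⟩
      linear_combination e1 - α * hs
    · exfalso
      have hs' : α + β - 1 ≠ 0 := sub_ne_zero.mpr hs
      have ha : a = 0 := by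
        have : (α + β - 1) • a = 0 := by rw [sub_smul, one_smul, e2, sub_self]
        exact (smul_eq_zero.mp this).resolve_left hs'
      have hb : b = 0 := by
        have : (α + β - 1) • b = 0 := by rw [sub_smul, one_smul, e3, sub_self]
        exact (smul_eq_zero.mp this).resolve_left hs'
      subst ha hb
      rw [dot_zero_r] at e1 e4
      have a01 : α = 0 ∨ α = 1 := by
        have : α * (α - 1) = 0 := by linear_combination e1
        exact (mul_eq_zero.mp this).imp id sub_eq_zero.mp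
      have b01 : β = 0 ∨ β = 1 := by
        have : β * (β - 1) = 0 := by linear_combination e4
        exact (mul_eq_zero.mp this).imp id sub_eq_zero.mp
      rcases a01 with rfl | rfl <;> rcases b01 with rfl | rfl
      · exact h0 mk_000
      · exact hs (zero_add 1)
      · exact hs (add_zero 1)
      · exact h1 rfl
  · rintro ⟨hs, hd⟩
    refine ⟨?_, ?_, ?_⟩
    · rw [zornMul_mk, cross_self, cross_self, sub_zero, add_zero, ← add_smul, ← add_smul, hs, one_smul,
        one_smul, dot_comm b a, hd]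
      congr 1
      · linear_combination α * hs
      · linear_combination β * hs
    · intro h
      rw [← mk_000] at h
      obtain ⟨rfl, -, -, rfl⟩ := mk_inj h
      simp at hs
    · intro h
      obtain ⟨rfl, -, -, rfl⟩ := mk_inj h
      exact one_ne_zero (add_eq_left.mp hs)

theorem idem0_mem : (idem0 : Fin 8 → F) ∈ idemSet F := (idem_iff _ _ _ _).mpr ⟨add_zero 1, by simp [dot_zero_l]⟩

theorem exists_dot {b : Fin 3 → F} (hb : b ≠ 0) (t : F) : ∃ v : Fin 3 → F, dot3 v b = t := by
  obtain ⟨i, hi⟩ := Function.ne_iff.mp hb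
  refine ⟨Pi.single i (t / b i), ?_⟩
  fin_cases i <;> simp [dot3, Pi.single_apply] at hi ⊢ <;> field_simp

/-- `x` can be moved to the base idempotent. -/
def Reach (x : Fin 8 → F) : Prop := ∃ g ∈ Lie.G2 F, app g x = idem0

theorem reach_phi {x : Fin 8 → F} (v : Fin 3 → F) (h : Reach (phiEquiv v x)) : Reach x := by
  obtain ⟨g, hg, e⟩ := h
  exact ⟨g * (Orth.glEquiv (Fin 8) F).symm (phiEquiv v), mul_mem hg (symm_mem (phi_mul v)),
    by rw [app_mul, app_symm, e]⟩

theorem reach_psi {x : Fin 8 → F} (w : Fin 3 → F) (h : Reach (psiEquiv w x)) : Reach x := by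
  obtain ⟨g, hg, e⟩ := h
  exact ⟨g * (Orth.glEquiv (Fin 8) F).symm (psiEquiv w), mul_mem hg (symm_mem (psi_mul w)),
    by rw [app_mul, app_symm, e]⟩

theorem reach_top (a b : Fin 3 → F) (h : dot3 a b = 0) : Reach (mk 1 a b 0) := by
  refine reach_psi (-b) ?_
  rw [psi_mk, cross_neg_l, cross_self, dot_neg_l, dot_comm b a, h]
  refine reach_phi a ?_
  rw [phi_mk]
  refine ⟨1, one_mem _, ?_⟩
  rw [app_one]
  simp [idem0, cross_self, dot_zero_r]

theorem reach_all {x : Fin 8 → F} (hx : x ∈ idemSet F) : Reach x := by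
  -- the top coordinate can be made one
  have key : ∀ y : Fin 8 → F, y ∈ idemSet F → y 0 = 1 → Reach y := by
    intro y hy h0
    rw [← mk_eta y] at hy ⊢
    obtain ⟨hs, hd⟩ := (idem_iff _ _ _ _).mp hy
    rw [h0] at hs hd ⊢
    have h7 : y 7 = 0 := add_eq_left.mp hs
    rw [h7] at hd ⊢
    exact reach_top _ _ (by rw [hd, mul_zero])
  have hphi : ∀ v (y : Fin 8 → F), y ∈ idemSet F → phiEquiv v y ∈ idemSet F := fun v y hy => by
    rw [← app_symm (phiEquiv v) y]; exact app_idemSet (symm_mem (phi_mul v)) hy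
  have hpsi : ∀ v (y : Fin 8 → F), y ∈ idemSet F → psiEquiv v y ∈ idemSet F := fun v y hy => by
    rw [← app_symm (psiEquiv v) y]; exact app_idemSet (symm_mem (psi_mul v)) hy
  have hB : ∀ y : Fin 8 → F, y ∈ idemSet F → zB F y ≠ 0 → Reach y := by
    intro y hy hb
    obtain ⟨v, hv⟩ := exists_dot hb (1 - y 0)
    refine reach_phi v (key _ (hphi v y hy) ?_)
    conv_lhs => rw [← mk_eta y, phi_mk, mk_zero, hv, add_sub_cancel]
  have hA : ∀ y : Fin 8 → F, y ∈ idemSet F → zA F y ≠ 0 → Reach y := by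
    intro y hy ha
    obtain ⟨w, hw⟩ := exists_dot ha (y 0 - 1)
    refine reach_psi w (key _ (hpsi w y hy) ?_)
    conv_lhs => rw [← mk_eta y, psi_mk, mk_zero, hw, sub_sub_cancel]
  by_cases hb : zB F x ≠ 0
  · exact hB x hx hb
  by_cases ha : zA F x ≠ 0
  · exact hA x hx ha
  rw [not_not] at ha hb
  have e : x = mk (x 0) 0 0 (x 7) := by
    conv_lhs => rw [← mk_eta x, ha, hb]
  rw [e] at hx
  obtain ⟨hs, hd⟩ := (idem_iff _ _ _ _).mp hx
  rw [dot_zero_l] at hd
  rcases mul_eq_zero.mp hd.symm with h | h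
  · rw [h, zero_add] at hs
    rw [e, h, hs]
    refine reach_phi (Pi.single 0 1) (hA _ (hphi _ _ (by rw [h, hs] at hx; exact hx)) ?_)
    rw [phi_mk, zA_mk]
    intro hz
    simpa [dot_zero_r] using congrFun hz 0
  · rw [h, add_zero] at hs
    rw [e, h, hs]
    exact reach_top 0 0 (dot_zero_l 0)

theorem eA (x : Fin 8 → F) : zornMul idem0 x = mk (x 0) (zA F x) 0 0 := by
  conv_lhs => rw [← mk_eta x, idem0, zornMul_mk]
  simp [cross_zero_l, dot_zero_l]

theorem eB (x : Fin 8 → F) : zornMul x idem0 = mk (x 0) 0 (zB F x) 0 := by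
  conv_lhs => rw [← mk_eta x, idem0, zornMul_mk]
  simp [cross_zero_r, dot_zero_r]

theorem cross_basis (b : Fin 3 → F) :
    b 0 • cross3 (Pi.single 1 1) (Pi.single 2 1) + b 1 • cross3 (Pi.single 2 1) (Pi.single 0 1)
      + b 2 • cross3 (Pi.single 0 1) (Pi.single 1 1) = b := by
  ext i; fin_cases i <;> simp [cross3, Pi.single_apply]

theorem stab_slHom {g : GL (Fin 8) F} (hg : g ∈ Lie.G2 F) (he : app g idem0 = idem0) :
    ∃ A : Matrix.SpecialLinearGroup (Fin 3) F, slHom A = g := by
  have hm := mem_G2.mp hg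
  have hf : app g (mk 0 0 0 1) = mk 0 0 0 1 := by
    have : (mk 0 0 0 1 : Fin 8 → F) = one8 - idem0 := by
      ext i; fin_cases i <;> simp [one8, idem0, mk]
    rw [this, app_sub, app_one8 hg, he]
  let LA : (Fin 3 → F) →ₗ[F] (Fin 3 → F) :=
    { toFun := fun a => zA F (app g (mk 0 a 0 0))
      map_add' := fun a c => by
        have : (mk 0 (a + c) 0 0 : Fin 8 → F) = mk 0 a 0 0 + mk 0 c 0 0 := by simp [mk_add]
        rw [this, app_add]
        ext i; fin_cases i <;> rfl
      map_smul' := fun t a => by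
        have : (mk 0 (t • a) 0 0 : Fin 8 → F) = t • mk 0 a 0 0 := by simp [mk_smul]
        rw [this, app_smul]
        ext i; fin_cases i <;> rfl }
  have hA : ∀ a, app g (mk 0 a 0 0) = mk 0 (LinearMap.toMatrix' LA *ᵥ a) 0 0 := by
    intro a
    rw [LinearMap.toMatrix'_mulVec]
    have h1 := hm idem0 (mk 0 a 0 0)
    have h2 := hm (mk 0 a 0 0) idem0
    rw [he, eA, eA, zA_mk, mk_zero] at h1
    rw [he, eB, eB, zB_mk, mk_zero, mk_000, app_zero, ← mk_000] at h2
    rw [(mk_inj h2).1.symm] at h1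
    exact h1
  generalize LinearMap.toMatrix' LA = A at hA
  have hC : ∀ a c, app g (mk 0 0 (cross3 a c) 0) = mk 0 0 (cof A *ᵥ cross3 a c) 0 := by
    intro a c
    have h := hm (mk 0 a 0 0) (mk 0 c 0 0)
    rw [hA, hA, zornMul_mk, zornMul_mk, cross_mv] at h
    simpa [cross_zero_l, dot_zero_l, dot_zero_r] using h
  have hB : ∀ b, app g (mk 0 0 b 0) = mk 0 0 (cof A *ᵥ b) 0 := by
    intro b
    have e : ∀ u v : Fin 3 → F, (mk 0 0 (u + v) 0 : Fin 8 → F) = mk 0 0 u 0 + mk 0 0 v 0 := by
      intro u v; simp [mk_add]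
    have e' : ∀ (t : F) (u : Fin 3 → F), (mk 0 0 (t • u) 0 : Fin 8 → F) = t • mk 0 0 u 0 := by
      intro t u; simp [mk_smul]
    conv_lhs => rw [← cross_basis b]
    rw [e, e, e', e', e', app_add, app_add, app_smul, app_smul, app_smul, hC, hC, hC, ← e', ← e', ← e', ← e, ← e,
      ← mulVec_smul, ← mulVec_smul, ← mulVec_smul, ← mulVec_add, ← mulVec_add, cross_basis]
  have hdet : A.det = 1 := by
    have h := hm (mk 0 (Pi.single 0 1) 0 0) (mk 0 0 (Pi.single 0 1) 0)
    rw [hA, hB, zornMul_mk, zornMul_mk, dot_cof] at h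
    have h' : (mk (1 : F) 0 0 0) = idem0 := rfl
    simp [cross_zero_l, cross_zero_r, dot_zero_l, dot3, Pi.single_apply, h', he] at h
    exact ((mk_inj h).1).symm
  obtain ⟨SA, hSA⟩ : ∃ SA : Matrix.SpecialLinearGroup (Fin 3) F, (SA : Matrix (Fin 3) (Fin 3) F) = A :=
    ⟨⟨A, hdet⟩, rfl⟩
  subst hSA
  refine ⟨SA, gl_ext fun x => ?_⟩
  rw [app_slHom, ← mk_eta x, slFun_mk]
  have : (mk (x 0) (zA F x) (zB F x) (x 7) : Fin 8 → F)
      = x 0 • idem0 + mk 0 (zA F x) 0 0 + mk 0 0 (zB F x) 0 + x 7 • mk 0 0 0 1 := by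
    simp [idem0, mk_smul, mk_add]
  conv_rhs => rw [this, app_add, app_add, app_add, app_smul, app_smul, he, hf, hA, hB]
  simp [idem0, mk_smul, mk_add]

theorem slHom_injective : Function.Injective (slHom (F := F)) := by
  intro A B h
  refine Subtype.ext (Matrix.mulVec_injective (funext fun a => ?_))
  have := congrArg (fun g => app g (mk (0 : F) a 0 0)) h
  simp only [app_slHom, slFun_mk] at this
  exact (mk_inj this).2.1

theorem slHom_idem (A : Matrix.SpecialLinearGroup (Fin 3) F) : app (slHom A) idem0 = idem0 := by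
  rw [app_slHom, idem0, slFun_mk, mulVec_zero, mulVec_zero]

variable [Fintype F]

theorem card_dot_eq {a : Fin 3 → F} (ha : a ≠ 0) (t : F) :
    Nat.card {b : Fin 3 → F // dot3 a b = t} = Fintype.card F ^ 2 := by
  classical
  let f : (Fin 3 → F) →+ F := AddMonoidHom.mk' (fun b => dot3 a b) (fun b c => by simp [dot3]; ring)
  have hs : Function.Surjective f := fun t => by
    obtain ⟨v, hv⟩ := exists_dot ha t
    exact ⟨v, by simpa [f, dot_comm a] using hv⟩
  have e : ∀ t, Nat.card {b : Fin 3 → F // dot3 a b = t} = Nat.card f.ker := fun t => by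
    obtain ⟨v, hv⟩ := hs t
    refine Nat.card_congr ⟨fun b => ⟨b.1 - v, ?_⟩, fun b => ⟨b.1 + v, ?_⟩, fun b => ?_, fun b => ?_⟩
    · simp [AddMonoidHom.mem_ker, map_sub, hv]; simp [f, b.2]
    · have := AddMonoidHom.mem_ker.mp b.2
      show f (b.1 + v) = t
      rw [map_add, this, hv, zero_add]
    · simp
    · simp
  have h := AddSubgroup.card_mul_index f.ker
  rw [AddSubgroup.index_ker, AddMonoidHom.range_eq_top.mpr hs, AddSubgroup.card_top, Nat.card_eq_fintype_card (α := F),
    Nat.card_eq_fintype_card (α := Fin 3 → F), Fintype.card_fun, Fintype.card_fin] at h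
  rw [e]
  have hq : 0 < Fintype.card F := Fintype.card_pos
  refine Nat.eq_of_mul_eq_mul_right hq ?_
  rw [h]; ring

theorem card_idemSet : Nat.card (idemSet F) = Fintype.card F ^ 3 * (Fintype.card F ^ 3 + 1) := by
  classical
  let T : (F × (Fin 3 → F)) → Type _ := fun p => {b : Fin 3 → F // dot3 p.2 b = p.1 * (1 - p.1)}
  have e : idemSet F ≃ Σ p, T p :=
    { toFun := fun x => ⟨(x.1 0, zA F x.1), zB F x.1, by
        obtain ⟨x, hx⟩ := x
        rw [← mk_eta x] at hx
        obtain ⟨hs, hd⟩ := (idem_iff _ _ _ _).mp hx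
        show dot3 (zA F x) (zB F x) = _
        rw [hd, show x 7 = 1 - x 0 from eq_sub_of_add_eq' hs]⟩
      invFun := fun p => ⟨mk p.1.1 p.1.2 p.2.1 (1 - p.1.1), (idem_iff _ _ _ _).mpr ⟨by ring, p.2.2⟩⟩
      left_inv := fun x => by
        obtain ⟨x, hx⟩ := x
        refine Subtype.ext ?_
        have hx' := hx
        rw [← mk_eta x] at hx'
        obtain ⟨hs, -⟩ := (idem_iff _ _ _ _).mp hx'
        show mk (x 0) (zA F x) (zB F x) (1 - x 0) = x
        rw [← show x 7 = 1 - x 0 from eq_sub_of_add_eq' hs, mk_eta]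
      right_inv := fun p => by
        obtain ⟨⟨α, a⟩, b, hb⟩ := p
        have h1 : ((mk α a b (1 - α) : Fin 8 → F) 0, zA F (mk α a b (1 - α))) = (α, a) := by
          rw [zA_mk]; rfl
        refine Sigma.subtype_ext h1 ?_
        exact zB_mk α a b (1 - α) }
  rw [Nat.card_congr e, Nat.card_sigma, Fintype.sum_prod_type_right]
  have h0 : ∑ α : F, Nat.card (T (α, 0)) = 2 * Fintype.card F ^ 3 := by
    rw [← Finset.sum_subset (Finset.subset_univ ({0, 1} : Finset F)), Finset.sum_pair (zero_ne_one (α := F))]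
    · have : ∀ α : F, α * (1 - α) = 0 → Nat.card (T (α, 0)) = Fintype.card F ^ 3 := by
        intro α hα
        show Nat.card {b : Fin 3 → F // dot3 (0 : Fin 3 → F) b = α * (1 - α)} = _
        rw [Nat.card_congr (Equiv.subtypeUnivEquiv fun b => show dot3 (0 : Fin 3 → F) b = α * (1 - α) by
          simp [dot_zero_l, hα])]
        simp [Nat.card_eq_fintype_card]
      rw [this 0 (by ring), this 1 (by ring)]; ring
    · intro α _ hα
      simp only [Finset.mem_insert, Finset.mem_singleton, not_or] at hα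
      rw [Nat.card_eq_zero]
      left
      exact ⟨fun b => by
        have := b.2
        simp [dot_zero_l, sub_eq_zero, hα.1, Ne.symm hα.2] at this⟩
  rw [← Finset.add_sum_erase _ _ (Finset.mem_univ (0 : Fin 3 → F)), h0,
    Finset.sum_congr rfl fun a ha => Finset.sum_congr rfl fun α _ => card_dot_eq (Finset.ne_of_mem_erase ha) _]
  simp only [Finset.sum_const, Finset.card_univ, smul_eq_mul, Finset.card_erase_of_mem (Finset.mem_univ _),
    Fintype.card_fun, Fintype.card_fin]
  obtain ⟨k, hk⟩ := Nat.exists_eq_add_of_le' (Nat.one_le_pow 3 (Fintype.card F) Fintype.card_pos)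
  rw [hk, Nat.add_sub_cancel]
  have : Fintype.card F * Fintype.card F ^ 2 = k + 1 := by rw [← hk]; ring
  rw [this]; ring

theorem card_G2 : Nat.card (Lie.G2 F)
    = Fintype.card F ^ 3 * (Fintype.card F ^ 3 + 1) * Nat.card (Matrix.SpecialLinearGroup (Fin 3) F) := by
  have hs : ∀ x : idemSet F, ∃ g : Lie.G2 F, app (g : GL (Fin 8) F) idem0 = x.1 := fun x => by
    obtain ⟨g, hg, e⟩ := reach_all x.2
    exact ⟨⟨g⁻¹, inv_mem hg⟩, by rw [← e, ← app_mul, inv_mul_cancel, app_one]⟩
  choose sec hsec using hs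
  let Φ : idemSet F × Matrix.SpecialLinearGroup (Fin 3) F → Lie.G2 F :=
    fun p => sec p.1 * ⟨slHom p.2, slHom_mem p.2⟩
  have hΦ : ∀ x A, app ((Φ (x, A) : Lie.G2 F) : GL (Fin 8) F) idem0 = x.1 := fun x A => by
    show app ((sec x : GL (Fin 8) F) * slHom A) idem0 = _
    rw [app_mul, slHom_idem, hsec]
  have hbij : Function.Bijective Φ := by
    constructor
    · rintro ⟨x, A⟩ ⟨y, B⟩ h
      have hx : x = y := Subtype.ext (by rw [← hΦ x A, h, hΦ y B])
      subst hx
      exact Prod.ext rfl (slHom_injective (congrArg Subtype.val (mul_left_cancel h)))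
    · rintro ⟨g, hg⟩
      let x : idemSet F := ⟨app g idem0, app_idemSet hg idem0_mem⟩
      have he : app ((sec x : GL (Fin 8) F)⁻¹ * g) idem0 = idem0 := by
        refine app_inj (sec x : GL (Fin 8) F) ?_
        rw [← app_mul, mul_inv_cancel_left, hsec]
      obtain ⟨A, hA⟩ := stab_slHom (mul_mem (inv_mem (sec x).2) hg) he
      refine ⟨(x, A), Subtype.ext ?_⟩
      show (sec x : GL (Fin 8) F) * slHom A = g
      rw [hA, mul_inv_cancel_left]
  rw [← Nat.card_eq_of_bijective Φ hbij, Nat.card_prod, card_idemSet]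

end Cfsg.Agent.G2Oct
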