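/-
Pairs of 2 x 2 matrices with equal determinants acting on Zorn's algebra.
-/
import Cfsg.Agent.Lib.G2Octonion.Order
import Cfsg.Agent.Lib.Blocks.SylowTwoClassical

set_option autoImplicit false

namespace Cfsg.Agent.G2Oct

open Matrix Cfsg.Lie

variable {F : Type*} [Field F]

/-- The first plane pair. -/
def xOf (x : Fin 8 → F) : Matrix (Fin 2) (Fin 2) F := !![x 0, x 1; x 4, x 7]

/-- The second plane pair. -/
def yOf (x : Fin 8 → F) : Matrix (Fin 2) (Fin 2) F := !![x 2, x 3; x 6, -x 5]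

/-- Recombination. -/
def join (X Y : Matrix (Fin 2) (Fin 2) F) : Fin 8 → F :=
  ![X 0 0, X 0 1, Y 0 0, Y 0 1, X 1 0, -Y 1 1, Y 1 0, X 1 1]

theorem xOf_join (X Y : Matrix (Fin 2) (Fin 2) F) : xOf (join X Y) = X := by
  ext i j; fin_cases i <;> fin_cases j <;> rfl

theorem yOf_join (X Y : Matrix (Fin 2) (Fin 2) F) : yOf (join X Y) = Y := by
  ext i j; fin_cases i <;> fin_cases j <;> first | rfl | simp [yOf, join]

theorem join_eta (x : Fin 8 → F) : join (xOf x) (yOf x) = x := by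
  ext i; fin_cases i <;> first | rfl | simp [xOf, yOf, join]

theorem join_add (X X' Y Y' : Matrix (Fin 2) (Fin 2) F) :
    join (X + X') (Y + Y') = join X Y + join X' Y' := by
  ext i; fin_cases i <;> first | rfl | simp [join, add_comm]

theorem join_smul (c : F) (X Y : Matrix (Fin 2) (Fin 2) F) : join (c • X) (c • Y) = c • join X Y := by
  ext i; fin_cases i <;> first | rfl | simp [join]

theorem xOf_add (x y : Fin 8 → F) : xOf (x + y) = xOf x + xOf y := by
  ext i j; fin_cases i <;> fin_cases j <;> rfl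

theorem yOf_add (x y : Fin 8 → F) : yOf (x + y) = yOf x + yOf y := by
  ext i j; fin_cases i <;> fin_cases j <;> first | rfl | simp [yOf, add_comm]

theorem xOf_smul (c : F) (x : Fin 8 → F) : xOf (c • x) = c • xOf x := by
  ext i j; fin_cases i <;> fin_cases j <;> rfl

theorem yOf_smul (c : F) (x : Fin 8 → F) : yOf (c • x) = c • yOf x := by
  ext i j; fin_cases i <;> fin_cases j <;> first | rfl | simp [yOf]

/-- The linear map of a pair. -/
def pairFun (p : GL (Fin 2) F × GL (Fin 2) F) : (Fin 8 → F) →ₗ[F] (Fin 8 → F) where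
  toFun x := join ((p.1 : Matrix (Fin 2) (Fin 2) F) * xOf x * ((p.1⁻¹ : GL (Fin 2) F) : Matrix (Fin 2) (Fin 2) F))
    (((p.1⁻¹ : GL (Fin 2) F) : Matrix (Fin 2) (Fin 2) F)ᵀ * yOf x * (p.2 : Matrix (Fin 2) (Fin 2) F)ᵀ)
  map_add' x y := by rw [← join_add, xOf_add, yOf_add, mul_add, add_mul, mul_add, add_mul]
  map_smul' c x := by
    rw [RingHom.id_apply, ← join_smul, xOf_smul, yOf_smul, Matrix.mul_smul, Matrix.smul_mul, Matrix.mul_smul,
      Matrix.smul_mul]

theorem pairFun_apply (p : GL (Fin 2) F × GL (Fin 2) F) (x : Fin 8 → F) :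
    pairFun p x = join ((p.1 : Matrix (Fin 2) (Fin 2) F) * xOf x * ((p.1⁻¹ : GL (Fin 2) F) : Matrix (Fin 2) (Fin 2) F))
      (((p.1⁻¹ : GL (Fin 2) F) : Matrix (Fin 2) (Fin 2) F)ᵀ * yOf x * (p.2 : Matrix (Fin 2) (Fin 2) F)ᵀ) := rfl

/-- Pairs of matrices acting on the algebra. -/
def pairHom : GL (Fin 2) F × GL (Fin 2) F →* GL (Fin 8) F :=
  (Orth.glEquiv (Fin 8) F).symm.toMonoidHom.comp
    ((LinearMap.GeneralLinearGroup.generalLinearEquiv F (Fin 8 → F)).toMonoidHom.comp
      (MonoidHom.toHomUnits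
        { toFun := fun p : GL (Fin 2) F × GL (Fin 2) F => pairFun p
          map_one' := LinearMap.ext fun x => by simp [pairFun_apply, join_eta]
          map_mul' := fun p q => LinearMap.ext fun x => by
            show _ = pairFun p (pairFun q x)
            simp only [pairFun_apply, xOf_join, yOf_join, Prod.fst_mul, Prod.snd_mul, _root_.mul_inv_rev, Units.val_mul,
              Matrix.transpose_mul, Matrix.mul_assoc] }))

theorem app_pairHom (p : GL (Fin 2) F × GL (Fin 2) F) (x : Fin 8 → F) : app (pairHom p) x = pairFun p x := by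
  simp only [app, pairHom, MonoidHom.coe_comp, MulEquiv.coe_toMonoidHom, Function.comp_apply,
    MulEquiv.apply_symm_apply]
  rfl

theorem coe_diagFst (a : Fˣ) :
    (SylTwoClassical.diagFst F a : Matrix (Fin 2) (Fin 2) F) = !![(a : F), 0; 0, 1] := by
  show Matrix.diagonal (Pi.mulSingle 0 (a : F)) = _
  ext i j; fin_cases i <;> fin_cases j <;> simp

/-- Upper transvection. -/
def upT (t : F) : GL (Fin 2) F :=
  ⟨!![1, t; 0, 1], !![1, -t; 0, 1], by simp [Matrix.one_fin_two], by simp [Matrix.one_fin_two]⟩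

/-- Lower transvection. -/
def loT (t : F) : GL (Fin 2) F :=
  ⟨!![1, 0; t, 1], !![1, 0; -t, 1], by simp [Matrix.one_fin_two], by simp [Matrix.one_fin_two]⟩

theorem pair_up_mem (t : F) : pairHom (upT t, (1 : GL (Fin 2) F)) ∈ Lie.G2 F := by
  have : pairHom (upT t, (1 : GL (Fin 2) F)) = (Orth.glEquiv (Fin 8) F).symm (phiEquiv ![t, 0, 0]) := by
    refine gl_ext fun x => ?_
    rw [app_pairHom, app_symm]
    conv_rhs => rw [← mk_eta x, phi_mk]
    ext i; fin_cases i <;> simp [pairFun, upT, join, xOf, yOf, mk, dot3, cross3, Matrix.mul_apply, Fin.sum_univ_two] <;> ring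
  rw [this]
  exact symm_mem (phi_mul _)

theorem pair_lo_mem (t : F) : pairHom (loT t, (1 : GL (Fin 2) F)) ∈ Lie.G2 F := by
  have : pairHom (loT t, (1 : GL (Fin 2) F)) = (Orth.glEquiv (Fin 8) F).symm (psiEquiv ![t, 0, 0]) := by
    refine gl_ext fun x => ?_
    rw [app_pairHom, app_symm]
    conv_rhs => rw [← mk_eta x, psi_mk]
    ext i; fin_cases i <;> simp [pairFun, loT, join, xOf, yOf, mk, dot3, cross3, Matrix.mul_apply, Fin.sum_univ_two] <;> ring
  rw [this]
  exact symm_mem (psi_mul _)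

theorem pair_snd_mem (b : GL (Fin 2) F) (hb : (b : Matrix (Fin 2) (Fin 2) F).det = 1) :
    pairHom ((1 : GL (Fin 2) F), b) ∈ Lie.G2 F := by
  let A : Matrix (Fin 3) (Fin 3) F := !![1, 0, 0; 0, b 0 0, b 0 1; 0, b 1 0, b 1 1]
  have hb' := hb
  rw [Matrix.det_fin_two] at hb'
  have hA : A.det = 1 := by simp [A, Matrix.det_fin_three]; linear_combination hb'
  obtain ⟨SA, hSA⟩ : ∃ SA : Matrix.SpecialLinearGroup (Fin 3) F, (SA : Matrix (Fin 3) (Fin 3) F) = A :=
    ⟨⟨A, hA⟩, rfl⟩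
  have : pairHom ((1 : GL (Fin 2) F), b) = slHom SA := by
    refine gl_ext fun x => ?_
    rw [app_pairHom, app_slHom, hSA]
    conv_rhs => rw [← mk_eta x, slFun_mk]
    ext i
    fin_cases i <;> simp [A, pairFun, join, xOf, yOf, mk, cof, mulVec, dotProduct, Matrix.mul_apply, Fin.sum_univ_two,
      Fin.sum_univ_three] <;> first | ring1 | linear_combination (-(x 4)) * hb'
  rw [this]
  exact slHom_mem _

theorem pair_diag_mem (z : Fˣ) :
    pairHom (SylTwoClassical.diagFst F z, SylTwoClassical.diagFst F z) ∈ Lie.G2 F := by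
  let A : Matrix (Fin 3) (Fin 3) F := !![(z : F), 0, 0; 0, 1, 0; 0, 0, ((z⁻¹ : Fˣ) : F)]
  have hA : A.det = 1 := by simp [A, Matrix.det_fin_three]
  obtain ⟨SA, hSA⟩ : ∃ SA : Matrix.SpecialLinearGroup (Fin 3) F, (SA : Matrix (Fin 3) (Fin 3) F) = A :=
    ⟨⟨A, hA⟩, rfl⟩
  have : pairHom (SylTwoClassical.diagFst F z, SylTwoClassical.diagFst F z) = slHom SA := by
    refine gl_ext fun x => ?_
    rw [app_pairHom, app_slHom, hSA, pairFun_apply, ← map_inv]
    conv_rhs => rw [← mk_eta x, slFun_mk]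
    simp only [coe_diagFst]
    ext i
    fin_cases i <;> simp [A, join, xOf, yOf, mk, cof, mulVec, dotProduct, Matrix.mul_apply, Fin.sum_univ_two,
      Fin.sum_univ_three] <;> field_simp
  rw [this]
  exact slHom_mem _

theorem pair_fst_mem (a : GL (Fin 2) F) (ha : (a : Matrix (Fin 2) (Fin 2) F).det = 1) :
    pairHom (a, (1 : GL (Fin 2) F)) ∈ Lie.G2 F := by
  let S : Subgroup (GL (Fin 2) F) := (Lie.G2 F).comap (pairHom.comp (MonoidHom.inl _ _))
  have hU : ∀ t, upT t ∈ S := fun t => pair_up_mem t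
  have hL : ∀ t, loT t ∈ S := fun t => pair_lo_mem t
  have key : ∀ c : GL (Fin 2) F, (c : Matrix (Fin 2) (Fin 2) F).det = 1 → c 1 0 ≠ 0 → c ∈ S := by
    intro c hc h10
    rw [Matrix.det_fin_two] at hc
    have : c = upT ((c 0 0 - 1) / c 1 0) * loT (c 1 0) * upT ((c 1 1 - 1) / c 1 0) := by
      refine Units.ext ?_
      ext i j
      fin_cases i <;> fin_cases j <;> simp [upT, loT, Matrix.mul_apply, Fin.sum_univ_two] <;> field_simp <;>
        first | ring1 | linear_combination -hc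
    rw [this]
    exact S.mul_mem (S.mul_mem (hU _) (hL _)) (hU _)
  show a ∈ S
  by_cases h10 : a 1 0 = 0
  · have h00 : a 0 0 ≠ 0 := fun h => by
      rw [Matrix.det_fin_two, h, h10] at ha
      simp at ha
    have hk := key (loT 1 * a) (by rw [Units.val_mul, Matrix.det_mul, ha]; simp [loT, Matrix.det_fin_two])
      (by simp [loT, Matrix.mul_apply, Fin.sum_univ_two, h10, h00])
    have h := S.mul_mem (S.inv_mem (hL 1)) hk
    rwa [inv_mul_cancel_left] at h
  · exact key a ha h10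

theorem pair_mem {a b : GL (Fin 2) F} (h : Matrix.GeneralLinearGroup.det a = Matrix.GeneralLinearGroup.det b) :
    pairHom (a, b) ∈ Lie.G2 F := by
  obtain ⟨d, hd⟩ : ∃ d, d = SylTwoClassical.diagFst F (Matrix.GeneralLinearGroup.det a) := ⟨_, rfl⟩
  have hdet : Matrix.GeneralLinearGroup.det d = Matrix.GeneralLinearGroup.det a := by
    refine Units.ext ?_
    rw [hd]
    show (SylTwoClassical.diagFst F (Matrix.GeneralLinearGroup.det a) : Matrix (Fin 2) (Fin 2) F).det = _
    rw [coe_diagFst]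
    simp [Matrix.det_fin_two]
  have e : (a, b) = (d, d) * ((d⁻¹ * a, (1 : GL (Fin 2) F)) * ((1 : GL (Fin 2) F), d⁻¹ * b)) := by
    simp [Prod.ext_iff]
  rw [e, map_mul, map_mul]
  refine mul_mem (hd ▸ pair_diag_mem _) (mul_mem (pair_fst_mem _ ?_) (pair_snd_mem _ ?_))
  · show ((Matrix.GeneralLinearGroup.det (d⁻¹ * a) : Fˣ) : F) = 1
    rw [map_mul, map_inv, hdet, inv_mul_cancel, Units.val_one]
  · show ((Matrix.GeneralLinearGroup.det (d⁻¹ * b) : Fˣ) : F) = 1
    rw [map_mul, map_inv, hdet, h, inv_mul_cancel, Units.val_one]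

theorem pair_ker {a b : GL (Fin 2) F} (h : pairHom (a, b) = 1) :
    ∃ z : F, (a : Matrix (Fin 2) (Fin 2) F) = z • 1 ∧ b = a := by
  have hall : ∀ X Y : Matrix (Fin 2) (Fin 2) F,
      (a : Matrix (Fin 2) (Fin 2) F) * X * ((a⁻¹ : GL (Fin 2) F) : Matrix (Fin 2) (Fin 2) F) = X ∧
        ((a⁻¹ : GL (Fin 2) F) : Matrix (Fin 2) (Fin 2) F)ᵀ * Y * (b : Matrix (Fin 2) (Fin 2) F)ᵀ = Y := by
    intro X Y
    have h1 : pairFun (a, b) (join X Y) = join X Y := by rw [← app_pairHom, h, app_one]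
    rw [pairFun_apply, xOf_join, yOf_join] at h1
    exact ⟨by simpa [xOf_join] using congrArg xOf h1, by simpa [yOf_join] using congrArg yOf h1⟩
  have hc : ∀ X : Matrix (Fin 2) (Fin 2) F,
      (a : Matrix (Fin 2) (Fin 2) F) * X = X * (a : Matrix (Fin 2) (Fin 2) F) := by
    intro X
    conv_rhs => rw [← (hall X 0).1, Matrix.mul_assoc, ← Units.val_mul, inv_mul_cancel, Units.val_one, Matrix.mul_one]
  refine ⟨a 0 0, ?_, ?_⟩
  · have h01 := hc !![0, 1; 0, 0]
    have e01 := Matrix.ext_iff.2 h01 0 1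
    have e11 := Matrix.ext_iff.2 h01 0 0
    have h10 := Matrix.ext_iff.2 (hc !![0, 0; 1, 0]) 0 0
    simp [Matrix.mul_apply, Fin.sum_univ_two] at e01 e11 h10
    ext i j; fin_cases i <;> fin_cases j <;> simp [← e11, h10, e01]
  · have h1 := (hall 0 1).2
    rw [Matrix.mul_one, ← Matrix.transpose_mul, ← Units.val_mul] at h1
    have h2 : b * a⁻¹ = 1 := Units.ext (by
      rw [Units.val_one, ← Matrix.transpose_transpose ((b * a⁻¹ : GL (Fin 2) F) : Matrix (Fin 2) (Fin 2) F), h1,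
        Matrix.transpose_one])
    exact mul_inv_eq_one.1 h2

end Cfsg.Agent.G2Oct
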