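/-
A Sylow 2-subgroup of the automorphism group of Zorn's algebra in odd characteristic.
-/
import Cfsg.Agent.Lib.G2Octonion.Pair
import Cfsg.Agent.Lib.Orthogonal.SylowOdd.Plane

set_option autoImplicit false

namespace Cfsg.Agent.G2Oct

open Matrix Cfsg.Lie SylTwoWreath

variable {F : Type*} [Field F]

/-- Pairs with equal determinants. -/
def pairGroup (F : Type*) [Field F] : Subgroup (GL (Fin 2) F × GL (Fin 2) F) :=
  ((Matrix.GeneralLinearGroup.det.comp (MonoidHom.fst (GL (Fin 2) F) (GL (Fin 2) F))) /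
    (Matrix.GeneralLinearGroup.det.comp (MonoidHom.snd (GL (Fin 2) F) (GL (Fin 2) F)))).ker

theorem mem_pairGroup {p : GL (Fin 2) F × GL (Fin 2) F} :
    p ∈ pairGroup F ↔ Matrix.GeneralLinearGroup.det p.1 = Matrix.GeneralLinearGroup.det p.2 := by
  rw [pairGroup, MonoidHom.mem_ker, MonoidHom.div_apply, div_eq_one]
  rfl

/-- The map into the automorphism group. -/
def toG2 (F : Type*) [Field F] : pairGroup F →* Lie.G2 F :=
  (pairHom.comp (pairGroup F).subtype).codRestrict (Lie.G2 F) fun p => pair_mem (mem_pairGroup.mp p.2)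

/-- The swap of the two lines. -/
def swapW (F : Type*) [Field F] : GL (Fin 2) F :=
  ⟨!![0, 1; -1, 0], !![0, -1; 1, 0], by simp [Matrix.one_fin_two], by simp [Matrix.one_fin_two]⟩

theorem det_swapW : Matrix.GeneralLinearGroup.det (swapW F) = 1 :=
  Units.ext (by show (!![0, 1; -1, 0] : Matrix (Fin 2) (Fin 2) F).det = 1; simp [Matrix.det_fin_two])

/-- Diagonal matrices. -/
def diag2 (F : Type*) [Field F] : Fˣ × Fˣ →* GL (Fin 2) F :=
  MonoidHom.toHomUnits
    { toFun := fun p : Fˣ × Fˣ => !![(p.1 : F), 0; 0, (p.2 : F)]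
      map_one' := by simp [Matrix.one_fin_two]
      map_mul' := fun p q => by simp }

theorem coe_diag2 (p : Fˣ × Fˣ) : (diag2 F p : Matrix (Fin 2) (Fin 2) F) = !![(p.1 : F), 0; 0, (p.2 : F)] := rfl

theorem swap_conj (p : Fˣ × Fˣ) : swapW F * diag2 F p * (swapW F)⁻¹ = diag2 F (p.2, p.1) := by
  refine Units.ext ?_
  rw [Units.val_mul, Units.val_mul, coe_diag2, coe_diag2]
  show !![0, 1; -1, 0] * _ * !![0, -1; 1, 0] = _
  simp

theorem diag2_fst (a : Fˣ) : SylTwoClassical.diagFst F a = diag2 F (a, 1) := by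
  refine Units.ext ?_
  rw [coe_diagFst, coe_diag2]
  simp

variable [Fintype F]

theorem exists_sylow_mono (hF : Odd (Fintype.card F)) :
    ∃ (W : Sylow 2 (GL (Fin 2) F)) (C : Sylow 2 Fˣ),
      (∀ p : Fˣ × Fˣ, p.1 ∈ (C : Subgroup Fˣ) → p.2 ∈ (C : Subgroup Fˣ) → diag2 F p ∈ (W : Subgroup (GL (Fin 2) F))) ∧
      swapW F ∈ (W : Subgroup (GL (Fin 2) F)) ∧
      (∀ w ∈ (W : Subgroup (GL (Fin 2) F)), Matrix.GeneralLinearGroup.det w ∈ (C : Subgroup Fˣ)) ∧
      SqComm ((W : Subgroup (GL (Fin 2) F)) ⊓ Matrix.GeneralLinearGroup.det.ker :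
        Subgroup (GL (Fin 2) F)) := by
  obtain ⟨C⟩ : Nonempty (Sylow 2 Fˣ) := inferInstance
  let N : Subgroup (GL (Fin 2) F) := ((C : Subgroup Fˣ).prod (C : Subgroup Fˣ)).map (diag2 F)
  let S : Subgroup (GL (Fin 2) F) := Subgroup.zpowers (swapW F)
  have hN : IsPGroup 2 N := by
    refine IsPGroup.map ?_ _
    intro g
    obtain ⟨j, hj⟩ := C.isPGroup' ⟨g.1.1, g.2.1⟩
    obtain ⟨k, hk⟩ := C.isPGroup' ⟨g.1.2, g.2.2⟩
    refine ⟨j + k, Subtype.ext (Prod.ext ?_ ?_)⟩
    · show g.1.1 ^ 2 ^ (j + k) = 1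
      rw [pow_add, pow_mul, show g.1.1 ^ 2 ^ j = 1 from congrArg Subtype.val hj, one_pow]
    · show g.1.2 ^ 2 ^ (j + k) = 1
      rw [pow_add, mul_comm, pow_mul, show g.1.2 ^ 2 ^ k = 1 from congrArg Subtype.val hk, one_pow]
  have hsN : ∀ g ∈ N, swapW F * g * (swapW F)⁻¹ ∈ N := by
    rintro _ ⟨p, hp, rfl⟩
    exact ⟨(p.2, p.1), ⟨hp.2, hp.1⟩, (swap_conj p).symm⟩
  have hnorm : S ≤ Subgroup.normalizer (N : Set (GL (Fin 2) F)) := by
    rw [Subgroup.zpowers_le, Subgroup.mem_normalizer_iff]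
    intro g
    refine ⟨hsN g, fun h => ?_⟩
    obtain ⟨p, hp, e⟩ := h
    refine ⟨(p.2, p.1), ⟨hp.2, hp.1⟩, ?_⟩
    have e' := swap_conj (F := F) (p.2, p.1)
    exact mul_left_cancel (mul_right_cancel (e'.trans e))
  have hS : IsPGroup 2 S := by
    refine IsPGroup.of_card (n := padicValNat 2 (Nat.card S)) ?_
    have h4 : swapW F ^ 4 = 1 := Units.ext (by
      rw [Units.val_pow_eq_pow_val]
      show (!![0, 1; -1, 0] : Matrix (Fin 2) (Fin 2) F) ^ 4 = _
      simp [pow_succ, Matrix.one_fin_two])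
    have h := orderOf_dvd_of_pow_eq_one h4
    rw [Nat.card_zpowers]
    obtain ⟨k, -, hk⟩ := (Nat.dvd_prime_pow Nat.prime_two).1 (show orderOf (swapW F) ∣ 2 ^ 2 from h)
    rw [hk, padicValNat.prime_pow]
  obtain ⟨W, hW⟩ := (IsPGroup.to_sup_of_normal_right' hS hN hnorm).exists_le_sylow
  refine ⟨W, C, fun p h1 h2 => hW (Subgroup.mem_sup_right ⟨p, ⟨h1, h2⟩, rfl⟩),
    hW (Subgroup.mem_sup_left (Subgroup.mem_zpowers _)), fun w hw => ?_, ?_⟩
  · obtain ⟨C', hC'⟩ := (W.isPGroup'.map (Matrix.GeneralLinearGroup.det (n := Fin 2) (R := F))).exists_le_sylow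
    haveI := Sylow.unique_of_normal C inferInstance
    rw [Subsingleton.elim C C']
    exact hC' ⟨w, hw, rfl⟩
  · obtain ⟨P⟩ : Nonempty (Sylow 2 (Matrix.SpecialLinearGroup (Fin 2) F)) := inferInstance
    haveI : (Matrix.SpecialLinearGroup.toGL : Matrix.SpecialLinearGroup (Fin 2) F →* GL (Fin 2) F).range.Normal := by
      rw [SylTwoClassical.range_toGL]; infer_instance
    obtain ⟨e⟩ := inter_equiv Matrix.SpecialLinearGroup.toGL
      Matrix.SpecialLinearGroup.toGL_injective W P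
    rw [← SylTwoClassical.range_toGL]
    exact sqComm_of_surjective e.symm.toMonoidHom e.symm.surjective (SylTwoClassical.sqComm_sylow_sl2 hF P)

theorem card_ker_dvd : Nat.card (toG2 F).ker ∣ Fintype.card F - 1 := by
  let f : (toG2 F).ker →* Fˣ :=
    MonoidHom.toHomUnits
      { toFun := fun p => ((p.1.1.1 : GL (Fin 2) F) : Matrix (Fin 2) (Fin 2) F) 0 0
        map_one' := by simp
        map_mul' := fun p q => by
          obtain ⟨z, hz, -⟩ := pair_ker (a := p.1.1.1) (b := p.1.1.2)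
            (congrArg Subtype.val (MonoidHom.mem_ker.1 p.2))
          show ((p.1.1.1 * q.1.1.1 : GL (Fin 2) F) : Matrix (Fin 2) (Fin 2) F) 0 0 = _
          rw [Units.val_mul, hz]
          simp }
  have hf : Function.Injective f := by
    intro p q h
    have h' : ((p.1.1.1 : GL (Fin 2) F) : Matrix (Fin 2) (Fin 2) F) 0 0
        = ((q.1.1.1 : GL (Fin 2) F) : Matrix (Fin 2) (Fin 2) F) 0 0 := congrArg Units.val h
    obtain ⟨z, hz, hpb⟩ := pair_ker (a := p.1.1.1) (b := p.1.1.2) (congrArg Subtype.val (MonoidHom.mem_ker.1 p.2))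
    obtain ⟨w, hw, hqb⟩ := pair_ker (a := q.1.1.1) (b := q.1.1.2) (congrArg Subtype.val (MonoidHom.mem_ker.1 q.2))
    rw [hz, hw] at h'
    simp at h'
    have e1 : p.1.1.1 = q.1.1.1 := Units.ext (by rw [hz, hw, h'])
    exact Subtype.ext (Subtype.ext (Prod.ext e1 (by rw [hpb, hqb, e1])))
  have h := Subgroup.card_dvd_of_injective f hf
  rwa [Nat.card_units, Nat.card_eq_fintype_card (α := F)] at h

theorem val_G2 (hF : Odd (Fintype.card F)) :
    padicValNat 2 (Nat.card (Lie.G2 F)) = 2 * padicValNat 2 (Fintype.card F ^ 2 - 1) := by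
  have hq1 := Fintype.one_lt_card (α := F)
  have h3 : padicValNat 2 (Nat.card (Matrix.SpecialLinearGroup (Fin 3) F)) =
      padicValNat 2 (Fintype.card F ^ 2 - 1) + padicValNat 2 (Fintype.card F - 1) := by
    have h0 : padicValNat 2 (Nat.card (GL (Fin 0) F)) = 0 := by
      rw [Matrix.card_GL_field]; simp
    have hs : padicValNat 2 (Nat.card (Matrix.SpecialLinearGroup (Fin 3) F)) +
        padicValNat 2 (Fintype.card F - 1) = padicValNat 2 (Nat.card (GL (Fin 3) F)) :=
      SylTwoClassical.val_sl_succ hF 2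
    have g1 : padicValNat 2 (Nat.card (GL (Fin 3) F)) =
        padicValNat 2 (Fintype.card F ^ 3 - 1) + padicValNat 2 (Nat.card (GL (Fin 2) F)) :=
      SylTwoClassical.val_gl_succ hF 2
    have g2 : padicValNat 2 (Nat.card (GL (Fin 2) F)) =
        padicValNat 2 (Fintype.card F ^ 2 - 1) + padicValNat 2 (Nat.card (GL (Fin 1) F)) :=
      SylTwoClassical.val_gl_succ hF 1
    have g3 : padicValNat 2 (Nat.card (GL (Fin 1) F)) =
        padicValNat 2 (Fintype.card F ^ 1 - 1) + padicValNat 2 (Nat.card (GL (Fin 0) F)) :=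
      SylTwoClassical.val_gl_succ hF 0
    have g4 := SylTwoClassical.val_pred_pow hq1 hF (i := 3) (by decide)
    rw [pow_one] at g3
    omega
  have h4 : padicValNat 2 (Fintype.card F ^ 3 + 1) + padicValNat 2 (Fintype.card F - 1)
      = padicValNat 2 (Fintype.card F ^ 2 - 1) := by
    have hm : Fintype.card F ^ 3 % 4 = Fintype.card F % 4 := by
      have : Fintype.card F % 4 = 1 ∨ Fintype.card F % 4 = 3 := by
        have := Nat.odd_iff.1 hF
        omega
      rcases this with h | h <;> rw [Nat.pow_mod, h]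
    have a3 := OrthSylOdd.val_sign_pow hq1 hF (m := 3) (by norm_num)
    have a1 := OrthSylOdd.val_sign_pow hq1 hF (m := 1) le_rfl
    rw [padicValNat.eq_zero_of_not_dvd (n := 3) (by decide), hm, add_zero] at a3
    rw [padicValNat.eq_zero_of_not_dvd (n := 1) (by decide), pow_one, add_zero] at a1
    rcases (show Fintype.card F % 4 = 1 ∨ Fintype.card F % 4 = 3 by
      have := Nat.odd_iff.1 hF
      omega) with h | h
    · have := a3.1 h; have := a1.1 h; omega
    · have := a3.2 h; have := a1.2 h; omega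
  rw [card_G2, padicValNat.mul (mul_ne_zero (pow_ne_zero _ (by omega)) (by omega)) Nat.card_pos.ne',
    padicValNat.mul (pow_ne_zero _ (by omega)) (by omega),
    padicValNat.eq_zero_of_not_dvd (n := Fintype.card F ^ 3)
      (fun h => (Nat.not_even_iff_odd.2 hF.pow) (even_iff_two_dvd.2 h)), h3]
  omega

theorem val_pairGroup (hF : Odd (Fintype.card F)) :
    padicValNat 2 (Nat.card (pairGroup F)) =
      2 * padicValNat 2 (Fintype.card F ^ 2 - 1) + padicValNat 2 (Fintype.card F - 1) := by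
  let d : GL (Fin 2) F × GL (Fin 2) F →* Fˣ :=
    (Matrix.GeneralLinearGroup.det.comp (MonoidHom.fst (GL (Fin 2) F) (GL (Fin 2) F))) /
      (Matrix.GeneralLinearGroup.det.comp (MonoidHom.snd (GL (Fin 2) F) (GL (Fin 2) F)))
  have hd : Function.Surjective d := fun z =>
    ⟨(SylTwoClassical.diagFst F z, 1), by
      show Matrix.GeneralLinearGroup.det (SylTwoClassical.diagFst F z) /
        Matrix.GeneralLinearGroup.det (1 : GL (Fin 2) F) = z
      rw [SylTwoClassical.det_diagFst, map_one, div_one]⟩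
  have h := Subgroup.card_eq_card_quotient_mul_card_subgroup d.ker
  rw [Nat.card_congr (QuotientGroup.quotientKerEquivOfSurjective d hd).toEquiv, Nat.card_units, Nat.card_prod,
    Nat.card_eq_fintype_card (α := F)] at h
  have hq1 := Fintype.one_lt_card (α := F)
  have hv := congrArg (padicValNat 2) h
  rw [padicValNat.mul Nat.card_pos.ne' Nat.card_pos.ne', padicValNat.mul (a := Fintype.card F - 1) (by omega) Nat.card_pos.ne'] at hv
  have g2 : padicValNat 2 (Nat.card (GL (Fin 2) F)) =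
      padicValNat 2 (Fintype.card F ^ 2 - 1) + padicValNat 2 (Nat.card (GL (Fin 1) F)) :=
    SylTwoClassical.val_gl_succ hF 1
  have g3 : padicValNat 2 (Nat.card (GL (Fin 1) F)) =
      padicValNat 2 (Fintype.card F ^ 1 - 1) + padicValNat 2 (Nat.card (GL (Fin 0) F)) :=
    SylTwoClassical.val_gl_succ hF 0
  have h0 : padicValNat 2 (Nat.card (GL (Fin 0) F)) = 0 := by
    rw [Matrix.card_GL_field]; simp
  rw [pow_one] at g3
  show padicValNat 2 (Nat.card d.ker) = _
  omega

theorem sqComm_sylow (hF : Odd (Fintype.card F)) (P : Sylow 2 (Lie.G2 F)) :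
    SqComm (P : Subgroup (Lie.G2 F)) := by
  obtain ⟨W, C, hC, hswap, hdet, hWsl⟩ := exists_sylow_mono hF
  let R : Subgroup (pairGroup F) :=
    ((W : Subgroup (GL (Fin 2) F)).prod (W : Subgroup (GL (Fin 2) F))).comap (pairGroup F).subtype
  let K : Subgroup (Lie.G2 F) := R.map (toG2 F)
  have hRp : IsPGroup 2 R := by
    intro g
    obtain ⟨j, hj⟩ := W.isPGroup' ⟨(g.1 : GL (Fin 2) F × GL (Fin 2) F).1, g.2.1⟩
    obtain ⟨k, hk⟩ := W.isPGroup' ⟨(g.1 : GL (Fin 2) F × GL (Fin 2) F).2, g.2.2⟩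
    refine ⟨j + k, Subtype.ext (Subtype.ext (Prod.ext ?_ ?_))⟩
    · show (g.1 : GL (Fin 2) F × GL (Fin 2) F).1 ^ 2 ^ (j + k) = 1
      rw [pow_add, pow_mul,
        show (g.1 : GL (Fin 2) F × GL (Fin 2) F).1 ^ 2 ^ j = 1 from congrArg Subtype.val hj, one_pow]
    · show (g.1 : GL (Fin 2) F × GL (Fin 2) F).2 ^ 2 ^ (j + k) = 1
      rw [pow_add, mul_comm, pow_mul,
        show (g.1 : GL (Fin 2) F × GL (Fin 2) F).2 ^ 2 ^ k = 1 from congrArg Subtype.val hk, one_pow]
  have hcardR : Nat.card R = 2 ^ padicValNat 2 (Nat.card (pairGroup F)) := by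
    obtain ⟨Q⟩ : Nonempty (Sylow 2 (pairGroup F)) := inferInstance
    have hWW : Nat.card ((W : Subgroup (GL (Fin 2) F)).prod (W : Subgroup (GL (Fin 2) F)))
        = 2 ^ (Nat.card (GL (Fin 2) F × GL (Fin 2) F)).factorization 2 := by
      rw [Nat.card_congr (Subgroup.prodEquiv _ _).toEquiv, Nat.card_prod, Nat.card_prod,
        SylTwoClassical.card_sylow, Nat.factorization_def _ Nat.prime_two,
        padicValNat.mul Nat.card_pos.ne' Nat.card_pos.ne', pow_add]
    haveI : (pairGroup F).subtype.range.Normal := by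
      rw [Subgroup.range_subtype]
      exact MonoidHom.normal_ker _
    obtain ⟨e⟩ := inter_equiv (pairGroup F).subtype (pairGroup F).subtype_injective (Sylow.ofCard _ hWW) Q
    rw [← SylTwoClassical.card_sylow Q, ← Nat.card_congr e.toEquiv, inf_comm]
    show _ = Nat.card ((pairGroup F).subtype.range ⊓
      ((W : Subgroup (GL (Fin 2) F)).prod (W : Subgroup (GL (Fin 2) F))) : Subgroup _)
    rw [← Subgroup.map_comap_eq, Subgroup.card_map_of_injective (pairGroup F).subtype_injective]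
  have hcardK : Nat.card K = 2 ^ (Nat.card (Lie.G2 F)).factorization 2 := by
    obtain ⟨k, hk⟩ := IsPGroup.iff_card.1 (hRp.map (toG2 F))
    have hle : k ≤ padicValNat 2 (Nat.card (Lie.G2 F)) :=
      (padicValNat_dvd_iff_le Nat.card_pos.ne').1 (hk ▸ Subgroup.card_subgroup_dvd_card K)
    have h1 := Subgroup.card_eq_card_quotient_mul_card_subgroup ((toG2 F).comp R.subtype).ker
    rw [Nat.card_congr (QuotientGroup.quotientKerEquivRange ((toG2 F).comp R.subtype)).toEquiv,
      MonoidHom.range_comp, Subgroup.range_subtype] at h1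
    rw [show Nat.card (R.map (toG2 F)) = 2 ^ k from hk, hcardR] at h1
    obtain ⟨j, -, hj⟩ := (Nat.dvd_prime_pow Nat.prime_two).1 (h1.symm ▸ Dvd.intro_left _ rfl :
      Nat.card ((toG2 F).comp R.subtype).ker ∣ 2 ^ padicValNat 2 (Nat.card (pairGroup F)))
    have hj' : j ≤ padicValNat 2 (Fintype.card F - 1) := by
      have hq1 := Fintype.one_lt_card (α := F)
      refine (padicValNat_dvd_iff_le (by omega)).1 (hj ▸ (dvd_trans ?_ card_ker_dvd))
      refine Subgroup.card_dvd_of_injective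
        ((R.subtype.comp ((toG2 F).comp R.subtype).ker.subtype).codRestrict (toG2 F).ker fun x => x.2) ?_
      intro x y h
      exact Subtype.ext (Subtype.ext (congrArg (fun z : (toG2 F).ker => z.1) h))
    rw [hj, ← pow_add] at h1
    have h2 := Nat.pow_right_injective (le_refl 2) h1
    rw [val_pairGroup hF] at h2
    rw [val_G2 hF] at hle
    rw [show Nat.card K = 2 ^ k from hk, Nat.factorization_def _ Nat.prime_two, val_G2 hF]
    congr 1
    omega
  refine SylTwoClassical.sqComm_of_sylow K hcardK P ?_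
  -- the square map is trivial on the abelianisation
  let g : R →* K := ((toG2 F).comp R.subtype).codRestrict K fun x => ⟨x.1, x.2, rfl⟩
  have hg : Function.Surjective g := by
    rintro ⟨_, x, hx, rfl⟩
    exact ⟨⟨x, hx⟩, rfl⟩
  let T : Subgroup R := (sqKer K).comap g
  let U : Subgroup (GL (Fin 2) F) := (W : Subgroup (GL (Fin 2) F)) ⊓ Matrix.GeneralLinearGroup.det.ker
  have hl : ∀ a : U, (⟨((a : GL (Fin 2) F), 1), mem_pairGroup.2 (by
      rw [map_one]; exact MonoidHom.mem_ker.1 a.2.2)⟩ : pairGroup F) ∈ R := fun a => ⟨a.2.1, one_mem _⟩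
  have hr : ∀ a : U, (⟨(1, (a : GL (Fin 2) F)), mem_pairGroup.2 (by
      rw [map_one]; exact (MonoidHom.mem_ker.1 a.2.2).symm)⟩ : pairGroup F) ∈ R := fun a => ⟨one_mem _, a.2.1⟩
  let inlU : U →* R := MonoidHom.mk' (fun a => ⟨_, hl a⟩) fun a b => by
    refine Subtype.ext (Subtype.ext ?_)
    simp
  let inrU : U →* R := MonoidHom.mk' (fun a => ⟨_, hr a⟩) fun a b => by
    refine Subtype.ext (Subtype.ext ?_)
    simp
  have hUl : ∀ a : U, inlU a ∈ T := fun a => mem_sqKer.2 (sqComm_map (g.comp inlU) (hWsl a))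
  have hUr : ∀ a : U, inrU a ∈ T := fun a => mem_sqKer.2 (sqComm_map (g.comp inrU) (hWsl a))
  have hD : ∀ z ∈ (C : Subgroup Fˣ), ∀ x : R,
      (x.1 : GL (Fin 2) F × GL (Fin 2) F) = (diag2 F (z, 1), diag2 F (z, 1)) → x ∈ T := by
    intro z hz x hx
    let ss : R := ⟨⟨(swapW F, swapW F), mem_pairGroup.2 rfl⟩, hswap, hswap⟩
    let sc : R := ⟨⟨(diag2 F (z, z), diag2 F (z, z)), mem_pairGroup.2 rfl⟩, hC _ hz hz, hC _ hz hz⟩
    have hsq : x ^ 2 = sc * (x * ss * x⁻¹ * ss⁻¹) := by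
      refine Subtype.ext (Subtype.ext ?_)
      simp only [Subgroup.coe_pow, Subgroup.coe_mul, commutatorElement_def, Subgroup.coe_inv, hx, sc, ss]
      have key : diag2 F (z, 1) ^ 2 = diag2 F (z, z) *
          (diag2 F (z, 1) * swapW F * (diag2 F (z, 1))⁻¹ * (swapW F)⁻¹) := by
        rw [mul_assoc (diag2 F (z, 1)) (swapW F), mul_assoc (diag2 F (z, 1)) (swapW F * _), ← map_inv, swap_conj,
          ← map_mul, ← map_mul, ← map_pow]
        congr 1
        refine Prod.ext ?_ ?_ <;> simp [pow_two]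
      exact Prod.ext key key
    have hsc : g sc = 1 := by
      refine Subtype.ext (Subtype.ext (gl_ext fun v => ?_))
      show app (pairHom (diag2 F (z, z), diag2 F (z, z))) v = app 1 v
      rw [app_one, app_pairHom, pairFun_apply, ← map_inv, coe_diag2, coe_diag2]
      conv_rhs => rw [← join_eta v]
      ext i
      fin_cases i <;> simp [join, xOf, yOf, Matrix.mul_apply, Fin.sum_univ_two] <;> field_simp
    refine mem_sqKer.2 ?_
    rw [← map_pow, hsq, map_mul, hsc, one_mul, ← commutatorElement_def, map_commutatorElement, commutator_def]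
    exact Subgroup.commutator_mem_commutator (Subgroup.mem_top _) (Subgroup.mem_top _)
  intro y
  obtain ⟨x, rfl⟩ := hg y
  refine mem_sqKer.1 (?_ : x ∈ T)
  obtain ⟨⟨⟨a, b⟩, hab⟩, ha, hb⟩ := x
  have hab' : Matrix.GeneralLinearGroup.det a = Matrix.GeneralLinearGroup.det b := mem_pairGroup.1 hab
  have hz := hdet a ha
  obtain ⟨d, hd⟩ : ∃ d, d = diag2 F (Matrix.GeneralLinearGroup.det a, 1) := ⟨_, rfl⟩
  have hdW : d ∈ (W : Subgroup (GL (Fin 2) F)) := hd ▸ hC _ hz (one_mem _)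
  have hdd : Matrix.GeneralLinearGroup.det d = Matrix.GeneralLinearGroup.det a := by
    rw [hd, ← diag2_fst, SylTwoClassical.det_diagFst]
  let ua : U := ⟨d⁻¹ * a, W.toSubgroup.mul_mem (W.toSubgroup.inv_mem hdW) ha, by
    simp [MonoidHom.mem_ker, map_mul, hdd]⟩
  let ub : U := ⟨d⁻¹ * b, W.toSubgroup.mul_mem (W.toSubgroup.inv_mem hdW) hb, by
    simp [MonoidHom.mem_ker, map_mul, hdd, hab']⟩
  let dd : R := ⟨⟨(d, d), mem_pairGroup.2 rfl⟩, hdW, hdW⟩
  have e : (⟨⟨(a, b), hab⟩, ha, hb⟩ : R) = dd * (inlU ua * inrU ub) := by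
    refine Subtype.ext (Subtype.ext ?_)
    simp [dd, inlU, inrU, ua, ub]
  rw [e]
  exact T.mul_mem (hD _ hz dd (by rw [← hd])) (T.mul_mem (hUl ua) (hUr ub))

end Cfsg.Agent.G2Oct
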